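import Groth.Agent.Lef23.PicLeff

/-!
# Invertible modules near the zero locus under the effective Lefschetz condition
-/

set_option autoImplicit false
set_option backward.isDefEq.respectTransparency.types false

universe u

open CategoryTheory CategoryTheory.Limits AlgebraicGeometry Opposite TopologicalSpace
open Groth.Agent.Coherent Groth.Agent.PicLib Groth.Agent.AmpleLib Groth.Agent.EulerLib Groth.Agent.SerreDual
open Groth.Agent.Lef23

noncomputable section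

namespace Groth.Agent.Lef24

variable {X : Scheme.{u}} [IsLocallyNoetherian X] (𝓘 : X.IdealSheafData) (n : ℕ)

theorem range_thick : Set.range (𝓘 ^ (n + 1)).subschemeι = (𝓘.support : Set X) := by
  rw [(𝓘 ^ (n + 1)).range_subschemeι, Scheme.IdealSheafData.support_pow_succ]

/-- An invertible module on a thickening extends to a neighbourhood. -/
theorem exists_near (h1 : LefX.LeffCond X 𝓘)
    (hH : ∀ q, n ≤ q → Subsingleton (Coh.HH X (kernel (Lef.quotMap (Lef.pow_succ_le 𝓘 q))) 2))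
    {N : ((𝓘 ^ (n + 1)).subscheme).Modules} (hN : PicF.IsInvertible N) :
    ∃ (U : X.Opens) (M : X.Modules), (𝓘.support : Set X) ⊆ (U : Set X) ∧
      PicF.IsInvertible (M.restrict U.ι) ∧
      Nonempty ((Scheme.Modules.pullback (𝓘 ^ (n + 1)).subschemeι).obj M ≅ N) := by
  let ι := (𝓘 ^ (n + 1)).subschemeι
  have hr := range_thick 𝓘 n
  obtain ⟨𝔐, h𝔐, ⟨eN⟩⟩ := exists_modSys 𝓘 n hH hN
  obtain ⟨U', E, hU', hE, ⟨φ⟩⟩ := h1.2 𝔐 h𝔐
  let E' := (Scheme.Modules.pushforward U'.ι).obj E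
  let φp : (Scheme.Modules.pullback ι).obj E' ≅ 𝔐.F n :=
    ⟨φ.hom.app n, φ.inv.app n, congrArg (fun f : FSch.ModSys.Hom _ _ => f.app n) φ.hom_inv_id,
      congrArg (fun f : FSch.ModSys.Hom _ _ => f.app n) φ.inv_hom_id⟩
  let U'' : X.Opens := ⨆ (W : X.Opens) (_ : ∃ s : Γ(E', W), IsGen E' W s), W
  have hmem : ∀ x, x ∈ U'' ↔ ∃ W : X.Opens, x ∈ W ∧ ∃ s : Γ(E', W), IsGen E' W s := fun x => by
    simp only [U'', Opens.mem_iSup, exists_prop]
    exact exists_congr fun _ => and_comm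
  let j₁ : (𝓘 ^ (n + 1)).subscheme ⟶ U' :=
    IsOpenImmersion.lift U'.ι ι (by rw [Scheme.Opens.range_ι, hr]; exact hU')
  have hj₁ : j₁ ≫ U'.ι = ι := IsOpenImmersion.lift_fac _ _ _
  let c : E'.restrict U'.ι ≅ E := (asIso (Scheme.Modules.restrictAdjunction U'.ι).counit).app E
  have hinv : PicF.IsInvertible ((Scheme.Modules.pullback j₁).obj E) :=
    ParaF29.isInvertible_of_iso (eN.symm ≪≫ φp.symm ≪≫ (pullbackRestrictIso j₁ ι hj₁ E').symm ≪≫
      (Scheme.Modules.pullback j₁).mapIso c) hN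
  have hU'' : Set.range ι ⊆ (U'' : Set X) := by
    rintro _ ⟨z, rfl⟩
    obtain ⟨W, hz, s, hs⟩ := exists_isGen_of_pullback hE j₁ hinv z
    refine (hmem _).2 ⟨U'.ι ''ᵁ W, ⟨j₁ z, hz, show (j₁ ≫ U'.ι) z = ι z by rw [hj₁]⟩, _,
      ParaF29.isGen_of_restrict U'.ι (CAlgH.ParaStalk.isGen_of_iso c.symm hs)⟩
  exact ⟨U'', E', hr ▸ hU'', isInvertible_restrict_of_gens U''.ι fun y => (hmem _).1 y.2, ⟨φp ≪≫ eN⟩⟩

/-- A module trivial on a thickening is trivial. -/
theorem nonempty_trivial (h : Lef.LefCond X 𝓘)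
    (hH : ∀ q, n ≤ q → Subsingleton (Coh.HH X (kernel (Lef.quotMap (Lef.pow_succ_le 𝓘 q))) 1))
    {U : X.Opens} (hU : (𝓘.support : Set X) ⊆ (U : Set X)) {L : (U : Scheme.{u}).Modules}
    (hL : PicF.IsInvertible L) (g : (𝓘 ^ (n + 1)).subscheme ⟶ U)
    (hg : g ≫ U.ι = (𝓘 ^ (n + 1)).subschemeι)
    (e : (Scheme.Modules.pullback g).obj L ≅ Coh.structureModule _) :
    Nonempty (L ≅ Coh.structureModule U) := by
  let K := 𝓘.comap U.ι
  have hK : (𝓘 ^ (n + 1)).comap U.ι = K ^ (n + 1) := FSchLib.comap_pow U.ι 𝓘 (n + 1)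
  let a : (K ^ (n + 1)).subscheme ⟶ (𝓘 ^ (n + 1)).subscheme :=
    IsClosedImmersion.lift (𝓘 ^ (n + 1)).subschemeι ((K ^ (n + 1)).subschemeι ≫ U.ι) (by
      rw [Scheme.IdealSheafData.ker_subschemeι, ← Scheme.IdealSheafData.map_ker,
        Scheme.IdealSheafData.ker_subschemeι, Scheme.IdealSheafData.le_map_iff_comap_le, hK])
  have ha : a ≫ g = (K ^ (n + 1)).subschemeι := by
    rw [← cancel_mono U.ι, Category.assoc, hg, IsClosedImmersion.lift_fac]
  obtain ⟨e₀⟩ := exists_pullStructureIso a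
  obtain ⟨e₁⟩ := exists_pullStructureIso (K ^ (n + 1)).subschemeι
  exact nonempty_iso_of_thick U 𝓘 h hU n hH hL isInvertible_structureModule
    ((Scheme.Modules.pullbackCongr ha.symm).app L ≪≫ ((Scheme.Modules.pullbackComp a g).app L).symm ≪≫
      (Scheme.Modules.pullback a).mapIso e ≪≫ e₀ ≪≫ e₁.symm)

end Groth.Agent.Lef24
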