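import Groth.Agent.CI14.Conn
import Groth.Agent.CAlgH.PicPunctCI
import Groth.Agent.PicPn22.Main
import Groth.Agent.Lef23.PicExtend
import Groth.Agent.KoszPn17.TwistGenPn
import Groth.Agent.AbCubeLib.MulBy
import Groth.Agent.Lef23.Formal
import Groth.Agent.DimLib.Points

/-!
# Picard groups of complete intersections of dimension at least three
-/

set_option autoImplicit false
set_option backward.isDefEq.respectTransparency.types false
set_option linter.style.haveILetI false

universe u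

open CategoryTheory CategoryTheory.Limits AlgebraicGeometry IsLocalRing TopologicalSpace
open Groth.Agent Groth.Agent.CI14 Groth.Agent.DimLib Groth.Agent.Coherent Groth.Agent.EulerLib Groth.Agent.PicLib Groth.Agent.AmpleLib
open Groth.Agent.CAlgH3.ModCohSeq

noncomputable section

namespace Groth.Agent.Lef24

variable {k : Type u} [Field k] {n r : ℕ}

/-- The twist of a complete intersection. -/
abbrev twistOn {X : Scheme.{u}} (ι : X ⟶ CohB1.ProjSpace n k) (i : ℤ) : X.Modules :=
  (Scheme.Modules.pullback ι).obj (Twist.twistProjSpace n k i)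

theorem isInvertible_twistOn {X : Scheme.{u}} (ι : X ⟶ CohB1.ProjSpace n k) (i : ℤ) :
    PicF.IsInvertible (twistOn ι i) :=
  PicLoc.isInvertible_pullback _ (isInvertible_twist' i)

theorem nonempty_twistOn_add {X : Scheme.{u}} (ι : X ⟶ CohB1.ProjSpace n k) {i j l : ℤ} (h : i + j = l) :
    Nonempty (CohB1.tensorMod (twistOn ι i) (twistOn ι j) ≅ twistOn ι l) := by
  obtain ⟨e⟩ := nonempty_twist_tensor (n := n) (k := k) i j l h
  obtain ⟨e'⟩ := exists_pullTensorIso ι (isInvertible_twist' (n := n) (k := k) i) (isInvertible_twist' j)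
  exact ⟨e'.symm ≪≫ (Scheme.Modules.pullback ι).mapIso e⟩

theorem nonempty_twistOn_zero {X : Scheme.{u}} (ι : X ⟶ CohB1.ProjSpace n k) :
    Nonempty (twistOn ι 0 ≅ Coh.structureModule X) := by
  obtain ⟨u⟩ := nonempty_twistOn_add ι (i := (0 : ℤ)) (j := 0) (l := 0) (zero_add 0)
  exact H0Growth23.nonempty_iso_of_mk_eq (hL := isInvertible_twistOn ι 0) (hN := isInvertible_structureModule) (by
    have h : InvCl.mk _ (isInvertible_twistOn ι 0) * InvCl.mk _ (isInvertible_twistOn ι 0) =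
        InvCl.mk _ (isInvertible_twistOn ι 0) := by
      rw [InvCl.mk_mul]; exact InvCl.mk_eq _ _ u
    obtain ⟨Li, ⟨eL⟩⟩ := VarietyLib.exists_isInverseOf (isInvertible_twistOn ι 0)
    have hLi := Lef23.isInvertible_inverse (isInvertible_twistOn ι 0) ⟨eL⟩
    have h1 : InvCl.mk _ (isInvertible_twistOn ι 0) * InvCl.mk _ hLi = InvCl.mk _ isInvertible_structureModule := by
      rw [InvCl.mk_mul]; exact InvCl.mk_eq _ _ eL
    have h2 : InvCl.mk _ (isInvertible_twistOn ι 0) * (InvCl.mk _ (isInvertible_twistOn ι 0) * InvCl.mk _ hLi) =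
        InvCl.mk _ (isInvertible_twistOn ι 0) * InvCl.mk _ hLi := by rw [← mul_assoc, h]
    rw [h1] at h2
    exact (mul_one _).symm.trans h2)

theorem nonempty_twistOn_pow {X : Scheme.{u}} (ι : X ⟶ CohB1.ProjSpace n k) {M : X.Modules} (i : ℤ)
    (e : M ≅ twistOn ι i) : ∀ m : ℕ, Nonempty (CohB1.tensorPow M m ≅ twistOn ι (m * i))
  | 0 => by
    obtain ⟨e0⟩ := nonempty_twistOn_zero ι
    exact ⟨e0.symm ≪≫ eqToIso (by rw [Nat.cast_zero, zero_mul])⟩
  | m + 1 => by
    obtain ⟨e1⟩ := nonempty_twistOn_pow ι i e m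
    obtain ⟨e2⟩ := nonempty_twistOn_add ι (i := (m : ℤ) * i) (j := i) (l := ((m + 1 : ℕ) : ℤ) * i)
      (by push_cast; ring)
    exact ⟨AmpleLib.tensorIso e1 e ≪≫ e2⟩

theorem isAmple_twistOn {X : Scheme.{u}} (ι : X ⟶ CohB1.ProjSpace n k) [IsClosedImmersion ι] {a : ℕ}
    (ha : 1 ≤ a) : CohB1.IsAmple (twistOn ι a) := by
  have h1 : CohB1.IsAmple (twistOn ι 1) :=
    isAmple_pullback_of_isAffineHom ι (KoszPn17.isAmple_twist_projSpace n k)
  obtain ⟨e⟩ := nonempty_twistOn_pow ι 1 (Iso.refl _) a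
  exact isAmple_of_iso (e ≪≫ eqToIso (by rw [mul_one]))
    ((isAmple_pow_iff h1.1 a ha).2 h1)

/-- Complete intersection local rings. -/
theorem isAbsCI_stalk {a : Fin r → ℕ} (G : ∀ j : Fin r, LefPen.Form n k (a j)) (hG : IsProperCI G)
    (y : (LefPen.ciIdeal G).subscheme) :
    ∃ (rs : List ((CohB1.ProjSpace n k).presheaf.stalk ((LefPen.ciIdeal G).subschemeι y))),
      (∀ g ∈ rs, g ∈ maximalIdeal _) ∧ RingTheory.Sequence.IsRegular ((CohB1.ProjSpace n k).presheaf.stalk ((LefPen.ciIdeal G).subschemeι y)) rs ∧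
      Nonempty ((LefPen.ciIdeal G).subscheme.presheaf.stalk y ≃+*
        (CohB1.ProjSpace n k).presheaf.stalk ((LefPen.ciIdeal G).subschemeι y) ⧸ Ideal.span {g | g ∈ rs}) := by
  classical
  obtain ⟨j, hj⟩ := exists_chart ((LefPen.ciIdeal G).subschemeι y)
  obtain ⟨hsurj, hker⟩ := stalkMap_surj_ker G y j hj
  obtain ⟨hmem, hreg, -⟩ := regular_germOf G hG y j hj
  refine ⟨List.ofFn (germOf G j _ hj), fun g hg => ?_, ?_, ⟨(RingHom.quotientKerEquivOfSurjective hsurj).symm.trans
    (Ideal.quotEquivOfEq (hker.trans (congrArg Ideal.span (Set.ext fun g => ?_))))⟩⟩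
  · obtain ⟨l, rfl⟩ := List.mem_ofFn.1 hg
    exact hmem l
  · refine ⟨⟨fun i hi => ?_⟩, ?_⟩
    · have hi' : i < r := by simpa using hi
      have h := hreg (Finset.univ.filter fun l : Fin r => l.1 < i) ⟨i, hi'⟩ (by simp)
      have hset : (germOf G j _ hj '' ((Finset.univ.filter fun l : Fin r => l.1 < i : Finset (Fin r)) : Set (Fin r))) =
          {g | g ∈ (List.ofFn (germOf G j _ hj)).take i} := by
        ext g
        simp only [Set.mem_image, Finset.coe_filter, Finset.mem_univ, true_and, Set.mem_ofPred_eq,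
          List.mem_take_iff_getElem, List.getElem_ofFn, List.length_ofFn]
        exact ⟨fun ⟨l, hl, e⟩ => ⟨l.1, lt_min hl l.2, e⟩,
          fun ⟨l, hl, e⟩ => ⟨⟨l, (lt_min_iff.1 hl).2⟩, (lt_min_iff.1 hl).1, e⟩⟩
      rw [List.getElem_ofFn]
      refine (LinearEquiv.isSMulRegular_congr (Submodule.quotEquivOfEq _ _ ?_) _).1 h
      rw [hset, smul_eq_mul, Ideal.mul_top]
    · rw [smul_eq_mul, Ideal.mul_top]
      intro htop
      refine (maximalIdeal.isMaximal _).ne_top (top_le_iff.1 (htop.le.trans (Ideal.span_le.2 ?_)))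
      intro g hg
      obtain ⟨l, rfl⟩ := List.mem_ofFn.1 hg
      exact hmem l
  · rw [Set.mem_ofPred_eq, List.mem_ofFn, Set.mem_range]

/-- At closed points the local ring has dimension `n - r`. -/
theorem dim_stalk_closed {a : Fin r → ℕ} (G : ∀ j : Fin r, LefPen.Form n k (a j)) (hG : IsProperCI G)
    (y : (LefPen.ciIdeal G).subscheme) (hy : IsClosed ({y} : Set ↥(LefPen.ciIdeal G).subscheme)) :
    ringKrullDim ((LefPen.ciIdeal G).subscheme.presheaf.stalk y) + r = (n : WithBot ℕ∞) := by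
  obtain ⟨j, hj⟩ := exists_chart ((LefPen.ciIdeal G).subschemeι y)
  rw [(regular_germOf G hG y j hj).2.2]
  haveI := (PN.finiteType_toSpec n k).1
  obtain ⟨m, hm, hsum⟩ := exists_stalk_dim ((LefPen.ciIdeal G).subschemeι y)
  have hc : IsClosed ({(LefPen.ciIdeal G).subschemeι y} : Set (CohB1.ProjSpace n k)) := by
    rw [← Set.image_singleton]
    exact (LefPen.ciIdeal G).subschemeι.isClosedEmbedding.isClosedMap _ hy
  rw [(DimLib.ptDim_eq_zero_iff _ _).2 hc, zero_add] at hsum
  rw [hm, hsum]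

theorem depth_and_picTrivial {a : Fin r → ℕ} (G : ∀ j : Fin r, LefPen.Form n k (a j)) (hG : IsProperCI G)
    (hr : r + 4 ≤ n) (y : (LefPen.ciIdeal G).subscheme)
    (hy : IsClosed ({y} : Set ↥(LefPen.ciIdeal G).subscheme)) :
    ParaF.PicTrivial (↑(FEt.puncturedSpec ((LefPen.ciIdeal G).subscheme.presheaf.stalk y)) : Scheme.{u}) ∧
      (4 : ℕ∞) ≤ _root_.LocCoh.depth ((LefPen.ciIdeal G).subscheme.presheaf.stalk y)
        ((LefPen.ciIdeal G).subscheme.presheaf.stalk y) := by
  haveI := regular_stalk ((LefPen.ciIdeal G).subschemeι y)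
  obtain ⟨rs, hm, hreg, ⟨e⟩⟩ := isAbsCI_stalk G hG y
  refine CAlgH.PicPunct.picTrivial_of_isRegular rs hm hreg e (Misc15.le_of_add_natCast_le r ?_)
  rw [dim_stalk_closed G hG y hy]
  exact_mod_cast (show 4 + r ≤ n by omega)

/-- Vanishing on the cut. -/
theorem subsingleton_pow_tensor_quot {r : ℕ} {a : Fin (r + 1) → ℕ}
    (G : ∀ l : Fin (r + 1), LefPen.Form n k (a l)) (ha : ∀ l, 1 ≤ a l) (hr : r + 4 ≤ n) (hG : IsProperCI G)
    (m i : ℕ) (hi : i = 1 ∨ i = 2) :
    Subsingleton (Coh.HH (prev G).subscheme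
      ((DCoh.tensorBi.obj (CohB1.tensorPow (ClSub.idealMod (cut G)) m)).obj (ClSub.quotMod (cut G))) i) := by
  obtain ⟨ihV, -⟩ := coh_ci r (fun l : Fin r => a l.castSucc) (fun l => ha l.castSucc) (fun l => G l.castSucc)
    (by omega) (isProperCI_castSucc ha G (by omega) hG)
  let J := cut G
  let ι' := (prev G).subschemeι
  obtain ⟨eJ⟩ := nonempty_idealMod_cut_iso G ha (by omega) hG
  let c : ℤ := -(a (Fin.last r) : ℤ)
  obtain ⟨eT⟩ := nonempty_twistOn_pow ι' c eJ m
  let F := CohB1.tensorPow (ClSub.idealMod J) m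
  have hJ : PicF.IsInvertible (ClSub.idealMod J) :=
    FlatMor12.IdealModGen.isInvertible_idealMod J (isEffCartier_cut G hG)
  have hF : PicF.IsInvertible F := isInvertible_tensorPow hJ m
  haveI := AmpleLib.mono_idealModι J
  have hs := Lef23.shortExact_tensor J F ((Lef23.mono_tE_iff _ F).2
    (mono_tensE_map (isFinLocFree_of_invertible hF) (ClSub.idealModι J)))
  obtain ⟨e2⟩ := nonempty_twistOn_add ι' (i := (m : ℤ) * c) (j := c) (l := (m : ℤ) * c + c) rfl
  have h2 : V ((DCoh.tensorBi.obj (Coh.structureModule _)).obj F) i :=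
    V_of_iso ((Lef23.swapIso (Coh.structureModule (prev G).subscheme) F ≪≫ AmpleLib.tensorComm _ _ ≪≫
      unitTensorIso F) ≪≫ eT).symm (ihV ((m : ℤ) * c) i (by omega) (by omega))
  have h1 : V ((DCoh.tensorBi.obj (ClSub.idealMod J)).obj F) (i + 1) :=
    V_of_iso (Lef23.swapIso (ClSub.idealMod J) F ≪≫ AmpleLib.tensorIso eT eJ ≪≫ e2).symm
      (ihV ((m : ℤ) * c + c) (i + 1) (by omega) (by omega))
  have h3 : V ((DCoh.tensorBi.obj (ClSub.quotMod J)).obj F) i := V_right hs h2 h1
  let s₁ : (DCoh.tensorBi.obj F).obj (ClSub.quotMod J) ≅ CohB1.tensorMod (ClSub.quotMod J) F :=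
    Lef23.swapIso F (ClSub.quotMod J)
  let s₂ : CohB1.tensorMod (ClSub.quotMod J) F ≅ CohB1.tensorMod F (ClSub.quotMod J) :=
    AmpleLib.tensorComm _ _
  exact V_of_iso (Lef23.swapIso (ClSub.quotMod J) F ≪≫ s₂.symm ≪≫ s₁.symm) h3

/-- **Every invertible module on a complete intersection of dimension at least three is a twist.** -/
theorem exists_iso_twistOn : ∀ (r : ℕ) (a : Fin r → ℕ) (_ : ∀ l, 1 ≤ a l)
    (G : ∀ l : Fin r, LefPen.Form n k (a l)), r + 3 ≤ n → IsProperCI G →
    ∀ L : (LefPen.ciIdeal G).subscheme.Modules, PicF.IsInvertible L →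
      ∃ e : ℤ, Nonempty (L ≅ twistOn (LefPen.ciIdeal G).subschemeι e) := by
  intro r
  induction r with
  | zero =>
    intro a _ G _ _ L hL
    have hI : LefPen.ciIdeal G = ⊥ := iSup_of_empty _
    haveI : IsIso (LefPen.ciIdeal G).subschemeι := by
      have hk : Scheme.Hom.ker (𝟙 (CohB1.ProjSpace n k)) = (LefPen.ciIdeal G).subschemeι.ker := by
        rw [Scheme.IdealSheafData.ker_subschemeι, hI, Scheme.Hom.ker_eq_bot_of_isIso]
      let e := IsClosedImmersion.lift (𝟙 (CohB1.ProjSpace n k)) (LefPen.ciIdeal G).subschemeι hk.le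
      haveI : IsIso e := IsClosedImmersion.isIso_of_ker_eq (LefPen.ciIdeal G).subschemeι (𝟙 _) e
        (IsClosedImmersion.lift_fac _ _ _) hk.symm
      rw [← IsClosedImmersion.lift_fac (𝟙 (CohB1.ProjSpace n k)) (LefPen.ciIdeal G).subschemeι hk.le]
      exact (inferInstance : IsIso (e ≫ 𝟙 _))
    let ι := (LefPen.ciIdeal G).subschemeι
    obtain ⟨d, ⟨ed⟩⟩ := PicPn22.exists_iso_twist n k ((Scheme.Modules.pullback (inv ι)).obj L)
      (PicLoc.isInvertible_pullback _ hL)
    exact ⟨d, ⟨((Scheme.Modules.pullbackId _).app L).symm ≪≫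
      (Scheme.Modules.pullbackCongr (IsIso.hom_inv_id ι).symm).app L ≪≫
      ((Scheme.Modules.pullbackComp ι (inv ι)).app L).symm ≪≫ (Scheme.Modules.pullback ι).mapIso ed⟩⟩
  | succ r ih =>
    intro a ha G hr hG L hL
    have hG' := isProperCI_castSucc ha G (by omega) hG
    let J := cut G
    let ι' := (prev G).subschemeι
    letI : (prev G).subscheme.Over (Spec (CommRingCat.of k)) := ⟨ι' ≫ CohB1.ProjSpace.toSpec n k⟩
    haveI : IsProper ((prev G).subscheme ↘ Spec (CommRingCat.of k)) := by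
      haveI : IsProper (CohB1.ProjSpace.toSpec n k) := isProper_projSpace_toSpec n k
      exact (inferInstance : IsProper (ι' ≫ CohB1.ProjSpace.toSpec n k))
    obtain ⟨eJ⟩ := nonempty_idealMod_cut_iso G ha (by omega) hG
    let A := twistOn ι' (a (Fin.last r) : ℤ)
    have hamp : CohB1.IsAmple A := isAmple_twistOn ι' (ha _)
    have hinv : ClSub.IsInverseOf A (ClSub.idealMod J) := by
      obtain ⟨e⟩ := nonempty_twistOn_add ι' (i := (a (Fin.last r) : ℤ)) (j := -(a (Fin.last r) : ℤ)) (l := 0)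
        (by ring)
      obtain ⟨e0⟩ := nonempty_twistOn_zero ι'
      exact ⟨AmpleLib.tensorIso (Iso.refl A) eJ ≪≫ e ≪≫ e0⟩
    have hgood : Lef23.Good k J := ⟨fun x hx => le_trans (by norm_num)
        (depth_and_picTrivial (fun l : Fin r => G l.castSucc) hG' (by omega) x hx).2,
      fun m _ i hi => subsingleton_pow_tensor_quot G ha (by omega) hG m i hi⟩
    have hk : (J.subschemeι ≫ ι').ker = (LefPen.ciIdeal G).subschemeι.ker := by
      rw [ker_comap_comp_subschemeι, prev_sup_eq, Scheme.IdealSheafData.ker_subschemeι]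
    let e := IsClosedImmersion.lift (J.subschemeι ≫ ι') (LefPen.ciIdeal G).subschemeι hk.le
    haveI : IsIso e := IsClosedImmersion.isIso_of_ker_eq (LefPen.ciIdeal G).subschemeι (J.subschemeι ≫ ι') e
      (IsClosedImmersion.lift_fac _ _ _) hk.symm
    have he : e ≫ (J.subschemeι ≫ ι') = (LefPen.ciIdeal G).subschemeι := IsClosedImmersion.lift_fac _ _ _
    obtain ⟨M, hM, ⟨eM⟩⟩ := Lef23.pic_surjective k hinv hamp hgood
      (fun x hx _ => (depth_and_picTrivial (fun l : Fin r => G l.castSucc) hG' (by omega) x hx).1)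
      (PicLoc.isInvertible_pullback (inv e) hL)
    obtain ⟨d, ⟨ed⟩⟩ := ih (fun l => a l.castSucc) (fun l => ha l.castSucc) (fun l => G l.castSucc) (by omega) hG' M hM
    refine ⟨d, ⟨((Scheme.Modules.pullbackId _).app L).symm ≪≫
      (Scheme.Modules.pullbackCongr (IsIso.hom_inv_id e).symm).app L ≪≫
      ((Scheme.Modules.pullbackComp e (inv e)).app L).symm ≪≫ (Scheme.Modules.pullback e).mapIso (eM.symm ≪≫
        (Scheme.Modules.pullback J.subschemeι).mapIso ed ≪≫ (Scheme.Modules.pullbackComp J.subschemeι ι').app _) ≪≫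
      (Scheme.Modules.pullbackComp e (J.subschemeι ≫ ι')).app _ ≪≫ (Scheme.Modules.pullbackCongr he).app _⟩⟩

/-- A twist trivial on a positive-dimensional complete intersection is `O`. -/
theorem eq_zero_of_iso_twistOn {X : Scheme.{u}} (ι : X ⟶ CohB1.ProjSpace n k) [IsClosedImmersion ι]
    (hX : (0 : WithBot ℕ∞) < topologicalKrullDim ↥X) (e : ℤ)
    (φ : twistOn ι e ≅ Coh.structureModule X) : e = 0 := by
  by_contra hne
  have hpos : ∀ a : ℕ, 1 ≤ a → ¬ Nonempty (twistOn ι (a : ℤ) ≅ Coh.structureModule X) := by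
    rintro a ha ⟨ψ⟩
    haveI : IsProper (CohB1.ProjSpace.toSpec n k) := isProper_projSpace_toSpec n k
    let f := ι ≫ CohB1.ProjSpace.toSpec n k
    obtain ⟨e₀⟩ := AmpleLib.exists_pullStructureIso f
    haveI : IsFinite f := AbCubeLib.isFinite_of_isAmple_pullback f isInvertible_structureModule
      (isAmple_of_iso (ψ ≪≫ e₀.symm) (isAmple_twistOn ι ha))
    haveI : Finite ↥X := Finite.of_finite_univ (((f.finite_preimage_singleton default).subset (fun x _ =>
      Subsingleton.elim _ _)))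
    have h0 : topologicalKrullDim ↥X ≤ 0 := by
      haveI : JacobsonSpace ↥X := LocallyOfFiniteType.jacobsonSpace f
      have hd : ∀ x : X, IsClosed ({x} : Set X) := by
        intro x
        have h1 : (Set.univ : Set X) = closedPoints ↥X := by
          have h2 := closure_closedPoints (X := ↥X)
          have hc : IsClosed (closedPoints ↥X) := by
            rw [← Set.biUnion_of_singleton (closedPoints ↥X)]
            exact (Set.toFinite _).isClosed_biUnion fun t ht => ht
          rw [hc.closure_eq] at h2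
          exact h2.symm
        exact h1.le (Set.mem_univ x)
      haveI : T1Space ↥X := ⟨hd⟩
      haveI : DiscreteTopology ↥X := DiscreteTopology.of_finite_of_isClosed_singleton hd
      exact topologicalKrullDim_zero_of_discreteTopology _
    exact absurd hX (not_lt.2 h0)
  rcases lt_trichotomy e 0 with h | h | h
  · refine hpos e.natAbs (by omega) ?_
    obtain ⟨u⟩ := nonempty_twistOn_add ι (i := e) (j := (e.natAbs : ℤ)) (l := 0) (by omega)
    obtain ⟨e0⟩ := nonempty_twistOn_zero ι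
    exact ⟨(unitTensorIso _).symm ≪≫ AmpleLib.tensorIso φ.symm (Iso.refl _) ≪≫ u ≪≫ e0⟩
  · exact hne h
  · exact hpos e.natAbs (by omega) ⟨eqToIso (by rw [Int.natAbs_of_nonneg h.le]) ≪≫ φ⟩

end Groth.Agent.Lef24
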