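import Groth.Agent.Lef24.Near
import Groth.Agent.Lef23.Disjoint
import Groth.Agent.Lef23.GrKernel
import Groth.Agent.SDiv28.StalkCartier
import Groth.Agent.CAlgH.CIScheme
import Groth.Agent.CAlgH.PicPunctHyp
import Groth.Agent.S9332
import Groth.Agent.S2951
import Groth.Agent.S3356
import Groth.Agent.S3361
import Groth.Agent.S8914

/-!
# Picard groups of a flat family with parafactorial fibres and an ample relative divisor
-/

set_option autoImplicit false
set_option backward.isDefEq.respectTransparency.types false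

universe u

open CategoryTheory CategoryTheory.Limits AlgebraicGeometry IsLocalRing

noncomputable section

namespace Groth.Agent.Lef24

variable {X S : Scheme.{u}}

/-- Being closed in its fibre passes from a closed subscheme to the ambient scheme. -/
theorem isClosed_asFiber_image {Z : Scheme.{u}} (i : Z ⟶ X) [IsClosedImmersion i] (f : X ⟶ S)
    [LocallyOfFiniteType f] (y : Z)
    (h : IsClosed ({(i ≫ f).asFiber y} : Set ↥((i ≫ f).fiber ((i ≫ f).base y)))) :
    IsClosed ({f.asFiber (i.base y)} : Set ↥(f.fiber (f.base (i.base y)))) := by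
  have h1 := (Groth.Agent.S9332.result (i ≫ f) y).1 h
  rw [Scheme.residueFieldMap_comp] at h1
  have hs : Function.Surjective (i.residueFieldMap y).hom := by
    intro z
    obtain ⟨a, ha⟩ := Ideal.Quotient.mk_surjective z
    obtain ⟨b, hb⟩ := i.stalkMap_surjective y a
    exact ⟨IsLocalRing.residue _ b, by rw [← ha, ← hb]; rfl⟩
  let e := RingEquiv.ofBijective (i.residueFieldMap y).hom ⟨(i.residueFieldMap y).hom.injective, hs⟩
  refine (Groth.Agent.S9332.result f (i.base y)).2 ?_
  have h2 : (f.residueFieldMap (i.base y)).hom =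
      e.symm.toRingHom.comp (((i.residueFieldMap y).hom).comp (f.residueFieldMap (i.base y)).hom) :=
    RingHom.ext fun a => (e.symm_apply_apply _).symm
  rw [h2]
  exact (RingHom.Finite.of_surjective _ e.symm.surjective).comp h1

/-- The depth of a fibre of a relative effective Cartier divisor is one less. -/
theorem depth_fiberStalk_divisor [IsLocallyNoetherian X] [IsLocallyNoetherian S] {I : X.IdealSheafData}
    (hI : BlowUp.IsEffCartierIdeal I) (f : X ⟶ S) [Flat f] [Flat (I.subschemeι ≫ f)] (y : I.subscheme) :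
    LocCoh.depth ↑(CInt.fiberStalk (I.subschemeι ≫ f) y) ↑(CInt.fiberStalk (I.subschemeι ≫ f) y) + 1 =
      LocCoh.depth ↑(CInt.fiberStalk f (I.subschemeι.base y)) ↑(CInt.fiberStalk f (I.subschemeι.base y)) := by
  let x := I.subschemeι.base y
  let B := S.presheaf.stalk (f.base x)
  let O := X.presheaf.stalk x
  let O' := I.subscheme.presheaf.stalk y
  obtain ⟨t, ht, hker⟩ := SDiv28.StalkCartier.exists_ker_stalkMap hI y
  let q : O →+* O' := (I.subschemeι.stalkMap y).hom
  have hq : Function.Surjective q := I.subschemeι.stalkMap_surjective y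
  letI a1 : Algebra B O := (f.stalkMap x).hom.toAlgebra
  letI a2 : Algebra B O' := ((I.subschemeι ≫ f).stalkMap y).hom.toAlgebra
  haveI : IsLocalHom (algebraMap B O) := inferInstanceAs (IsLocalHom (f.stalkMap x).hom)
  haveI : IsLocalHom (algebraMap B O') :=
    inferInstanceAs (IsLocalHom ((I.subschemeι ≫ f).stalkMap y).hom)
  haveI : Module.Flat B O := Flat.stalkMap f x
  haveI : Module.Flat B O' := Flat.stalkMap (I.subschemeι ≫ f) y
  haveI : IsLocallyNoetherian I.subscheme := LocallyOfFiniteType.isLocallyNoetherian I.subschemeι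
  have hloc : ∀ (R : Type u) [CommRing R] [IsLocalRing R] (J : Ideal R), J ≤ maximalIdeal R →
      IsLocalRing (R ⧸ J) := fun R _ _ J hJ => by
    haveI : Nontrivial (R ⧸ J) := Ideal.Quotient.nontrivial_iff.2 fun h =>
      (maximalIdeal.isMaximal R).ne_top (top_le_iff.1 (h ▸ hJ))
    exact .of_surjective' _ Ideal.Quotient.mk_surjective
  haveI := hloc O ((maximalIdeal B).map (algebraMap B O)) (IsLocalRing.map_maximalIdeal_le _)
  haveI := hloc O' ((maximalIdeal B).map (algebraMap B O')) (IsLocalRing.map_maximalIdeal_le _)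
  haveI : IsLocalRing (↑(X.presheaf.stalk x) ⧸ Ideal.map (f.stalkMap x).hom
      (maximalIdeal ↑(S.presheaf.stalk (f x)))) := ‹IsLocalRing (O ⧸ (maximalIdeal B).map (algebraMap B O))›
  haveI : IsLocalRing (↑(I.subscheme.presheaf.stalk y) ⧸ Ideal.map ((I.subschemeι ≫ f).stalkMap y).hom
      (maximalIdeal ↑(S.presheaf.stalk ((I.subschemeι ≫ f) y)))) :=
    ‹IsLocalRing (O' ⧸ (maximalIdeal B).map (algebraMap B O'))›
  have htm : t ∈ maximalIdeal O := by
    rw [mem_maximalIdeal]
    intro hu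
    exact RingHom.ker_ne_top q (Ideal.eq_top_of_isUnit_mem _ (hker ▸ Ideal.mem_span_singleton_self t) hu)
  haveI := hloc O (Ideal.span {t}) ((Ideal.span_singleton_le_iff_mem _).2 htm)
  obtain ⟨e⟩ := CAlgH.CIScheme.fiberStalk_equiv f x
  obtain ⟨e'⟩ := CAlgH.CIScheme.fiberStalk_equiv (I.subschemeι ≫ f) y
  rw [← CAlgH3.depth_ringEquiv e', ← CAlgH3.depth_ringEquiv e]
  have h1 := CommAlg6.depth_eq_add_fibre (A := B) (B := O)
  have h2 := CommAlg6.depth_eq_add_fibre (A := B) (B := O')
  have h3 : LocCoh.depth O' O' + 1 = LocCoh.depth O O := by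
    rw [← CAlgH3.depth_ringEquiv ((Ideal.quotEquivOfEq hker.symm).trans (RingHom.quotientKerEquivOfSurjective hq))]
    exact CAlgH.PicPunct.depth_quotient_span_add_one htm (fun a b h => by
      have h0 : t * (a - b) = 0 := by rw [mul_sub]; exact sub_eq_zero.2 h
      exact sub_eq_zero.1 (ht.1 _ h0))
  have hB : LocCoh.depth B B ≠ ⊤ := CAlgH3.depth_lt_top.ne
  rw [h1, h2, add_assoc] at h3
  exact ENat.add_right_injective_of_ne_top hB h3

/-- **Pic X = Pic X_m** for a flat family with parafactorial fibres and a relative ample divisor. -/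
theorem pic_thickening (A : Type u) [CommRing A] [IsNoetherianRing A] (X : Scheme.{u})
    [X.Over (Spec (CommRingCat.of A))] [IsProper (X ↘ Spec (CommRingCat.of A))]
    [Flat (X ↘ Spec (CommRingCat.of A))] (𝓘 : X.IdealSheafData) (L : X.Modules)
    (hL : ClSub.IsInverseOf L (ClSub.idealMod 𝓘)) (hamp : CohB1.IsAmple L)
    [Flat (𝓘.subschemeι ≫ (X ↘ Spec (CommRingCat.of A)))]
    (hdepth : ∀ x : X, IsClosed ({((X ↘ Spec (CommRingCat.of A))).asFiber x} :
        Set ↥(((X ↘ Spec (CommRingCat.of A))).fiber (((X ↘ Spec (CommRingCat.of A))).base x))) →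
      (3 : ℕ∞) ≤ LocCoh.depth ↑(CInt.fiberStalk (X ↘ Spec (CommRingCat.of A)) x)
        ↑(CInt.fiberStalk (X ↘ Spec (CommRingCat.of A)) x))
    (hpf : ∀ x : X, IsClosed ({((X ↘ Spec (CommRingCat.of A))).asFiber x} :
        Set ↥(((X ↘ Spec (CommRingCat.of A))).fiber (((X ↘ Spec (CommRingCat.of A))).base x))) →
      x ∉ (𝓘.support : Set X) →
      ParaF.IsParafactorialLocalRing ↑(CInt.fiberStalk (X ↘ Spec (CommRingCat.of A)) x))
    (m : ℕ)
    (hH : ∀ n : ℕ, m < n → ∀ i : ℕ, (i = 1 ∨ i = 2) → Subsingleton (Coh.HH X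
      ((DCoh.tensorBi.obj (CohB1.tensorPow (ClSub.idealMod 𝓘) n)).obj (ClSub.quotMod 𝓘)) i)) :
    Formal2.PicPullbackInjective (𝓘 ^ (m + 1)).subschemeι ∧
      Formal2.PicPullbackSurjective (𝓘 ^ (m + 1)).subschemeι := by
  let f := X ↘ Spec (CommRingCat.of A)
  haveI : IsLocallyNoetherian X := LocallyOfFiniteType.isLocallyNoetherian f
  have hI : BlowUp.IsEffCartierIdeal 𝓘 :=
    (Groth.Agent.S8914.result 𝓘).1 (Lef23.isInvertible_inverse hamp.1 hL)
  have h23 : (2 : ℕ∞) ≤ 3 := by norm_num
  have h1 : LefX.LeffCond X 𝓘 := Groth.Agent.S3361.result A X 𝓘 L hL hamp (fun y hy => by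
    have h3 := hdepth _ (isClosed_asFiber_image 𝓘.subschemeι f y hy)
    rw [← depth_fiberStalk_divisor hI f y, show (3 : ℕ∞) = 2 + 1 by norm_num] at h3
    exact (WithTop.add_le_add_iff_right ENat.one_ne_top).1 h3) fun x hx => h23.trans (hdepth x hx)
  refine (Groth.Agent.S3356.result X 𝓘 m h1 (fun q hq i hi => ?_) (fun U hU x hx => ?_) m le_rfl ⊤
    (fun x _ => trivial)).2
  · obtain ⟨e⟩ := Lef23.exists_kernel_quotMap_iso 𝓘 hI q
    let T := CohB1.tensorPow (ClSub.idealMod 𝓘) (q + 1)
    let F := ClSub.quotMod 𝓘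
    exact Lef23.subsingleton_HH_iso (Lef23.swapIso T F ≪≫ AmpleLib.tensorComm F T ≪≫ e.symm) i
      (hH (q + 1) (Nat.lt_succ_of_le hq) i hi)
  · have hc := Lef23.isClosed_fibre_of_disjoint (A := A) 𝓘 hL hamp (Z := (U : Set X)ᶜ) U.2.isClosed_compl
      (Set.disjoint_left.2 fun z hz hz' => hz (hU hz')) hx
    let B := (Spec (CommRingCat.of A)).presheaf.stalk (f.base x)
    let O := X.presheaf.stalk x
    letI : Algebra B O := (f.stalkMap x).hom.toAlgebra
    haveI : IsLocalHom (algebraMap B O) := inferInstanceAs (IsLocalHom (f.stalkMap x).hom)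
    haveI : Module.Flat B O := Flat.stalkMap f x
    let J := (maximalIdeal B).map (algebraMap B O)
    haveI : Nontrivial (O ⧸ J) := Ideal.Quotient.nontrivial_iff.2 fun h =>
      (maximalIdeal.isMaximal O).ne_top (top_le_iff.1 (h ▸ IsLocalRing.map_maximalIdeal_le _))
    haveI : IsLocalRing (O ⧸ J) := .of_surjective' _ Ideal.Quotient.mk_surjective
    obtain ⟨e⟩ := CAlgH.CIScheme.fiberStalk_equiv f x
    haveI := CAlgH.CIScheme.isNoetherianRing_fiberStalk f x
    have hgood := ((CAlgH.ParaStalk.good_iff _).1 (hpf x hc fun h => hx (hU h))).of_ringEquiv e.symm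
    refine (CAlgH.ParaStalk.good_iff _).2
      ⟨(h23.trans (hdepth x hc)).trans (Lef23.depth_fiberStalk_le x), ?_⟩
    exact Groth.Agent.S2951.result B O
      ((hdepth x hc).trans_eq (CAlgH3.depth_ringEquiv e).symm) hgood.2

end Groth.Agent.Lef24
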